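import Groth.Prelude.Def_SGA1t
import Mathlib.RingTheory.Etale.StandardEtale
import Mathlib.RingTheory.Etale.Basic
import Mathlib.RingTheory.Ideal.GoingUp
import Mathlib.RingTheory.TensorProduct.MvPolynomial
import Mathlib.RingTheory.LocalRing.ResidueField.Basic

/-!
# The Kummer algebra `SGA1t.kummer A a n = A[T_i]/(T_i^{n_i} - a_i)` over an arbitrary finite index type

Universal property, finiteness, locality, base change, etaleness where the `a_i` are invertible.
-/

set_option autoImplicit false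
universe u v w w'

namespace Groth.Agent.Pi1.H390.KumBasic

open MvPolynomial IsLocalRing

section Basic

variable {A : Type u} [CommRing A] {ι : Type v} (a : ι → A) (n : ι → ℕ)

/-- The class of `T_i` in the Kummer algebra. -/
noncomputable def T (i : ι) : SGA1t.kummer A a n := Ideal.Quotient.mk _ (X i)

lemma T_pow (i : ι) : T a n i ^ n i = algebraMap A (SGA1t.kummer A a n) (a i) := by
  rw [T, ← map_pow, IsScalarTower.algebraMap_apply A (MvPolynomial ι A)
    (SGA1t.kummer A a n), Ideal.Quotient.algebraMap_eq, Ideal.Quotient.mk_eq_mk_iff_sub_mem]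
  exact Ideal.subset_span ⟨i, rfl⟩

/-- Universal property of the Kummer algebra. -/
noncomputable def lift {S : Type w} [CommRing S] [Algebra A S] (t : ι → S)
    (ht : ∀ i, t i ^ n i = algebraMap A S (a i)) : SGA1t.kummer A a n →ₐ[A] S :=
  Ideal.Quotient.liftₐ _ (MvPolynomial.aeval t) (by
    intro x hx
    rw [← RingHom.mem_ker]
    refine (Ideal.span_le.mpr ?_ : Ideal.span _ ≤ RingHom.ker (MvPolynomial.aeval t)) hx
    rintro _ ⟨i, rfl⟩
    simp [RingHom.mem_ker, ht i])

@[simp]
lemma lift_T {S : Type w} [CommRing S] [Algebra A S] (t : ι → S)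
    (ht : ∀ i, t i ^ n i = algebraMap A S (a i)) (i : ι) : lift a n t ht (T a n i) = t i := by
  refine (Ideal.Quotient.liftₐ_apply _ _ _ _).trans ?_
  refine (Ideal.Quotient.lift_mk _ _ _).trans ?_
  exact aeval_X _ _

variable {a n} in
lemma hom_ext {S : Type w} [CommRing S] [Algebra A S] {φ ψ : SGA1t.kummer A a n →ₐ[A] S}
    (h : ∀ i, φ (T a n i) = ψ (T a n i)) : φ = ψ := by
  refine Ideal.Quotient.algHom_ext _ ?_
  refine MvPolynomial.algHom_ext fun i => ?_
  exact h i

variable {a n} in
lemma ringHom_ext {S : Type w} [CommRing S] {φ ψ : SGA1t.kummer A a n →+* S}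
    (h0 : φ.comp (algebraMap A _) = ψ.comp (algebraMap A _))
    (h : ∀ i, φ (T a n i) = ψ (T a n i)) : φ = ψ := by
  let _ : Algebra A S := (φ.comp (algebraMap A _)).toAlgebra
  let φ' : SGA1t.kummer A a n →ₐ[A] S := { φ with commutes' := fun _ => rfl }
  let ψ' : SGA1t.kummer A a n →ₐ[A] S := { ψ with commutes' := fun r => (RingHom.congr_fun h0 r).symm }
  have h1 : φ' = ψ' := hom_ext h
  exact congrArg (fun f : SGA1t.kummer A a n →ₐ[A] S => (f : SGA1t.kummer A a n →+* S)) h1

lemma adjoin_T : Algebra.adjoin A (Set.range (T a n)) = ⊤ := by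
  rw [eq_top_iff]
  rintro x -
  obtain ⟨p, rfl⟩ := Ideal.Quotient.mk_surjective x
  have h : (Ideal.Quotient.mkₐ A (Ideal.span (Set.range fun i =>
      (MvPolynomial.X i : MvPolynomial ι A) ^ n i - MvPolynomial.C (a i)))) p ∈
      Algebra.adjoin A (Set.range (T a n)) := by
    have hp : p ∈ Algebra.adjoin A (Set.range (X : ι → MvPolynomial ι A)) := by
      rw [MvPolynomial.adjoin_range_X]; trivial
    have := (Subalgebra.mem_map (f := Ideal.Quotient.mkₐ A (Ideal.span (Set.range fun i =>
      (MvPolynomial.X i : MvPolynomial ι A) ^ n i - MvPolynomial.C (a i))))).mpr ⟨p, hp, rfl⟩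
    rw [AlgHom.map_adjoin, ← Set.range_comp] at this
    exact this
  exact h

lemma isIntegral_T (hn : ∀ i, 1 ≤ n i) (i : ι) : IsIntegral A (T a n i) := by
  refine IsIntegral.of_pow (hn i) ?_
  rw [T_pow]
  exact isIntegral_algebraMap

lemma finite [Finite ι] (hn : ∀ i, 1 ≤ n i) : Module.Finite A (SGA1t.kummer A a n) := by
  have h : (Algebra.adjoin A (Set.range (T a n))).toSubmodule.FG :=
    fg_adjoin_of_finite (Set.finite_range _) (by
      rintro _ ⟨i, rfl⟩
      exact isIntegral_T a n hn i)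
  rw [adjoin_T] at h
  exact ⟨by simpa using h⟩

instance finitePresentation [Finite ι] : Algebra.FinitePresentation A (SGA1t.kummer A a n) :=
  Algebra.FinitePresentation.quotient (Submodule.fg_span (Set.finite_range _))

end Basic

section Local

variable {A : Type u} [CommRing A] {ι : Type v} [Finite ι] (a : ι → A) (n : ι → ℕ)

omit [Finite ι] in
/-- Every element of the Kummer algebra is congruent to a constant modulo the `T_i`. -/
lemma exists_sub_mem (x : SGA1t.kummer A a n) :
    ∃ c : A, x - algebraMap A _ c ∈ Ideal.span (Set.range (T a n)) := by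
  have hx : x ∈ Algebra.adjoin A (Set.range (T a n)) := by rw [adjoin_T]; trivial
  induction hx using Algebra.adjoin_induction with
  | mem x hx => exact ⟨0, by simpa using Ideal.subset_span hx⟩
  | algebraMap a => exact ⟨a, by simp⟩
  | add x y _ _ hx hy =>
    obtain ⟨a, ha⟩ := hx
    obtain ⟨b, hb⟩ := hy
    refine ⟨a + b, ?_⟩
    rw [map_add]
    have := add_mem ha hb
    convert this using 1
    ring
  | mul x y _ _ hx hy =>
    obtain ⟨a, ha⟩ := hx
    obtain ⟨b, hb⟩ := hy
    refine ⟨a * b, ?_⟩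
    rw [map_mul]
    have := add_mem (Ideal.mul_mem_left _ x hb) (Ideal.mul_mem_right (algebraMap A _ b) _ ha)
    convert this using 1
    ring

variable [IsLocalRing A] (hm : ∀ i, a i ∈ maximalIdeal A) (hn : ∀ i, 1 ≤ n i)
include hm hn

omit [Finite ι] in
/-- The augmentation of the Kummer algebra to the residue field of the base. -/
lemma exists_res : ∃ φ : SGA1t.kummer A a n →ₐ[A] ResidueField A, ∀ i, φ (T a n i) = 0 := by
  refine ⟨lift a n (fun _ => 0) (fun i => ?_), fun i => lift_T _ _ _ _ _⟩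
  rw [zero_pow (by have := hn i; omega)]
  exact ((residue_eq_zero_iff (a i)).mpr (hm i)).symm

lemma eq_of_isMaximal (M : Ideal (SGA1t.kummer A a n)) [hM : M.IsMaximal] :
    M = (maximalIdeal A).map (algebraMap A (SGA1t.kummer A a n)) ⊔
      Ideal.span (Set.range (T a n)) := by
  have := finite a n hn
  have h1 : M.under A = maximalIdeal A :=
    IsLocalRing.eq_maximalIdeal (Ideal.IsMaximal.under A M)
  have h2 : (maximalIdeal A).map (algebraMap A (SGA1t.kummer A a n)) ≤ M := by
    rw [Ideal.map_le_iff_le_comap, ← Ideal.under_def, h1]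
  have h3 : Ideal.span (Set.range (T a n)) ≤ M := by
    rw [Ideal.span_le]
    rintro _ ⟨i, rfl⟩
    refine hM.isPrime.mem_of_pow_mem (n i) ?_
    rw [T_pow]
    exact h2 (Ideal.mem_map_of_mem _ (hm i))
  refine le_antisymm ?_ (sup_le h2 h3)
  intro x hx
  obtain ⟨c, hc⟩ := exists_sub_mem a n x
  have hc' : algebraMap A _ c ∈ M := by
    have := M.sub_mem hx (h3 hc)
    simpa using this
  have hc'' : c ∈ maximalIdeal A := by rw [← h1]; exact hc'
  have h4 : x = (x - algebraMap A _ c) + algebraMap A _ c := by ring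
  rw [h4]
  exact add_mem (Ideal.mem_sup_right hc) (Ideal.mem_sup_left
    (Ideal.mem_map_of_mem (algebraMap A (SGA1t.kummer A a n)) hc''))

lemma isLocalRing : IsLocalRing (SGA1t.kummer A a n) := by
  obtain ⟨φ, -⟩ := exists_res a n hm hn
  have : Nontrivial (SGA1t.kummer A a n) := φ.toRingHom.domain_nontrivial
  obtain ⟨M, hM⟩ := Ideal.exists_maximal (SGA1t.kummer A a n)
  refine IsLocalRing.of_unique_max_ideal ⟨M, hM, fun M' (hM' : M'.IsMaximal) => ?_⟩
  rw [eq_of_isMaximal a n hm hn M, eq_of_isMaximal a n hm hn M']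

lemma isLocalHom [IsLocalRing (SGA1t.kummer A a n)] :
    IsLocalHom (algebraMap A (SGA1t.kummer A a n)) := by
  refine ⟨fun c hc => ?_⟩
  by_contra hna
  have h2 : (algebraMap A (SGA1t.kummer A a n) c) ∈ maximalIdeal _ := by
    rw [eq_of_isMaximal a n hm hn (maximalIdeal (SGA1t.kummer A a n))]
    exact Ideal.mem_sup_left (Ideal.mem_map_of_mem _ ((mem_maximalIdeal _).mpr hna))
  exact (mem_maximalIdeal _).mp h2 hc

end Local

section Etale

variable {A : Type u} [CommRing A]

/-- The standard etale pair `(X^n - a, n X^n)`. -/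
noncomputable def pair (a : A) (n : ℕ) (hn : 1 ≤ n) : StandardEtalePair A where
  f := Polynomial.X ^ n - Polynomial.C a
  monic_f := Polynomial.monic_X_pow_sub_C a (by omega)
  g := Polynomial.C (n : A) * Polynomial.X ^ n
  cond := ⟨Polynomial.X, 0, 1, by
    obtain ⟨m, rfl⟩ := Nat.exists_eq_add_of_le' hn
    simp only [Polynomial.derivative_sub, Polynomial.derivative_X_pow, Polynomial.derivative_C]
    simp
    ring⟩

lemma hasMap_iff {a : A} {n : ℕ} {hn : 1 ≤ n} {S : Type w} [CommRing S] [Algebra A S] {x : S} :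
    (pair a n hn).HasMap x ↔
      x ^ n = algebraMap A S a ∧ IsUnit (algebraMap A S (n : A) * x ^ n) := by
  simp [StandardEtalePair.HasMap, pair, sub_eq_zero]

variable {ι : Type v} (a : ι → A) (n : ι → ℕ)

/-- The Kummer algebra is formally etale as soon as the `a_i` and the `n_i` are invertible. -/
theorem formallyEtale (hn : ∀ i, 1 ≤ n i) (hu : ∀ i, IsUnit ((n i : ℕ) : A))
    (ha : ∀ i, IsUnit (a i)) : Algebra.FormallyEtale A (SGA1t.kummer A a n) := by
  have hP : ∀ {S : Type (max v u)} [CommRing S] [Algebra A S],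
      ∀ {i : ι} {x : S}, x ^ n i = algebraMap A S (a i) → (pair (a i) (n i) (hn i)).HasMap x := by
    intro S _ _ i x hx
    refine hasMap_iff.mpr ⟨hx, ?_⟩
    rw [hx]
    exact ((hu i).map (algebraMap A S)).mul ((ha i).map (algebraMap A S))
  refine Algebra.FormallyEtale.iff_comp_bijective.mpr fun S _ _ I hI => ⟨?_, ?_⟩
  · intro φ ψ hφψ
    refine hom_ext fun i => ?_
    set x := φ (T a n i) with hx
    set y := ψ (T a n i) with hy
    have hx' : x ^ n i = algebraMap A S (a i) := by
      rw [hx, ← map_pow, T_pow, AlgHom.commutes]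
    have hy' : y ^ n i = algebraMap A S (a i) := by
      rw [hy, ← map_pow, T_pow, AlgHom.commutes]
    have hxy : Ideal.Quotient.mk I x = Ideal.Quotient.mk I y :=
      DFunLike.congr_fun hφψ (T a n i)
    have hxm := hP hx'
    obtain ⟨ε, -, H⟩ := (pair (a i) (n i) (hn i)).existsUnique_hasMap_of_hasMap_quotient_of_sq_eq_bot
      I hI x (hxm.map (Ideal.Quotient.mkₐ A I))
    have h0 : (0 : S) = ε := H 0 ⟨I.zero_mem, by simpa using hxm⟩
    have h1 : y - x = ε := H (y - x) ⟨by
      rw [← Ideal.Quotient.mk_eq_mk_iff_sub_mem]; exact hxy.symm, by simpa using hP hy'⟩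
    have : y - x = 0 := by rw [h1, h0]
    exact (sub_eq_zero.mp this).symm
  · intro φ
    have hx : ∀ i, ∃ x : S, Ideal.Quotient.mk I x = φ (T a n i) ∧
        x ^ n i = algebraMap A S (a i) := by
      intro i
      obtain ⟨x, hx⟩ := Ideal.Quotient.mk_surjective (φ (T a n i))
      have hx' : (pair (a i) (n i) (hn i)).HasMap (Ideal.Quotient.mk I x) := by
        refine hP ?_
        rw [hx, ← map_pow, T_pow, AlgHom.commutes]
      obtain ⟨ε, ⟨hε, hm⟩, -⟩ :=
        (pair (a i) (n i) (hn i)).existsUnique_hasMap_of_hasMap_quotient_of_sq_eq_bot I hI x hx'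
      refine ⟨x + ε, ?_, (hasMap_iff.mp hm).1⟩
      rw [map_add, Ideal.Quotient.eq_zero_iff_mem.mpr hε, add_zero, hx]
    choose x hx1 hx2 using hx
    refine ⟨lift a n x hx2, ?_⟩
    refine hom_ext fun i => ?_
    rw [AlgHom.comp_apply, lift_T, Ideal.Quotient.mkₐ_eq_mk, hx1]

theorem etale [Finite ι] (hn : ∀ i, 1 ≤ n i) (hu : ∀ i, IsUnit ((n i : ℕ) : A))
    (ha : ∀ i, IsUnit (a i)) : Algebra.Etale A (SGA1t.kummer A a n) where
  formallyEtale := formallyEtale a n hn hu ha
  finitePresentation := inferInstance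

end Etale

section BaseChange

open TensorProduct

variable {A : Type u} [CommRing A] {ι : Type v} (a : ι → A) (n : ι → ℕ)

/-- Functoriality of the Kummer algebra in the base ring. -/
noncomputable def map {A' : Type w} [CommRing A'] (g : A →+* A') (a' : ι → A') (h : ∀ i, g (a i) = a' i) :
    SGA1t.kummer A a n →+* SGA1t.kummer A' a' n :=
  letI : Algebra A (SGA1t.kummer A' a' n) := ((algebraMap A' (SGA1t.kummer A' a' n)).comp g).toAlgebra
  (lift a n (T a' n) (fun i => by
    rw [T_pow, ← h]; rfl)).toRingHom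

@[simp]
lemma map_T {A' : Type w} [CommRing A'] (g : A →+* A') (a' : ι → A') (h : ∀ i, g (a i) = a' i) (i : ι) :
    map a n g a' h (T a n i) = T a' n i := by
  let _ : Algebra A (SGA1t.kummer A' a' n) := ((algebraMap A' (SGA1t.kummer A' a' n)).comp g).toAlgebra
  exact lift_T a n (T a' n) _ i

@[simp]
lemma map_algebraMap {A' : Type w} [CommRing A'] (g : A →+* A') (a' : ι → A') (h : ∀ i, g (a i) = a' i)
    (c : A) : map a n g a' h (algebraMap A _ c) = algebraMap A' _ (g c) := by
  let _ : Algebra A (SGA1t.kummer A' a' n) := ((algebraMap A' (SGA1t.kummer A' a' n)).comp g).toAlgebra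
  exact (lift a n (T a' n) _).commutes c

variable (A' : Type w) [CommRing A'] [Algebra A A'] (a' : ι → A')
  (h : ∀ i, algebraMap A A' (a i) = a' i)

/-- The comparison map `A' ⊗ A[T]/(T^n - a) → A'[T]/(T^n - a)`. -/
noncomputable def bcHom : A' ⊗[A] (SGA1t.kummer A a n) →ₐ[A'] SGA1t.kummer A' a' n :=
  Algebra.TensorProduct.lift (Algebra.ofId A' _)
    (lift a n (T a' n) (fun i => by
      rw [T_pow, ← h, ← IsScalarTower.algebraMap_apply])) (fun _ _ => Commute.all _ _)

/-- The inverse comparison map. -/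
noncomputable def bcInv : SGA1t.kummer A' a' n →ₐ[A'] A' ⊗[A] (SGA1t.kummer A a n) :=
  lift a' n (fun i => (1 : A') ⊗ₜ[A] T a n i) (fun i => by
    rw [Algebra.TensorProduct.tmul_pow, one_pow, T_pow, ← h,
      Algebra.TensorProduct.algebraMap_apply, Algebra.algebraMap_self, RingHom.id_apply,
      Algebra.algebraMap_eq_smul_one (A := A'), TensorProduct.smul_tmul,
      Algebra.algebraMap_eq_smul_one])

lemma bcHom_T (i : ι) : bcHom a n A' a' h (1 ⊗ₜ T a n i) = T a' n i := by
  rw [bcHom, Algebra.TensorProduct.lift_tmul, map_one, one_mul, lift_T]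

lemma bcInv_T (i : ι) : bcInv a n A' a' h (T a' n i) = 1 ⊗ₜ T a n i := by
  rw [bcInv, lift_T]

lemma bcHom_comp_bcInv : (bcHom a n A' a' h).comp (bcInv a n A' a' h) = AlgHom.id A' _ := by
  refine hom_ext fun i => ?_
  rw [AlgHom.comp_apply, bcInv_T, bcHom_T, AlgHom.id_apply]

lemma bcInv_comp_bcHom : (bcInv a n A' a' h).comp (bcHom a n A' a' h) = AlgHom.id A' _ := by
  refine Algebra.TensorProduct.ext (by ext) ?_
  refine hom_ext (S := A' ⊗[A] (SGA1t.kummer A a n)) fun i => ?_
  change bcInv a n A' a' h (bcHom a n A' a' h (1 ⊗ₜ T a n i)) = 1 ⊗ₜ T a n i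
  rw [bcHom_T, bcInv_T]

/-- Base change of the Kummer algebra. -/
noncomputable def bc : A' ⊗[A] (SGA1t.kummer A a n) ≃ₐ[A'] SGA1t.kummer A' a' n :=
  AlgEquiv.ofAlgHom (bcHom a n A' a' h) (bcInv a n A' a' h)
    (bcHom_comp_bcInv a n A' a' h) (bcInv_comp_bcHom a n A' a' h)

@[simp]
lemma bc_T (i : ι) : bc a n A' a' h (1 ⊗ₜ T a n i) = T a' n i := bcHom_T a n A' a' h i

lemma bc_algebraMap (c : A) :
    bc a n A' a' h (1 ⊗ₜ algebraMap A _ c) = algebraMap A' _ (algebraMap A A' c) := by
  rw [Algebra.algebraMap_eq_smul_one, ← TensorProduct.smul_tmul, ← Algebra.algebraMap_eq_smul_one]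
  exact (bc a n A' a' h).commutes (algebraMap A A' c)

end BaseChange

end Groth.Agent.Pi1.H390.KumBasic
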