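import Groth.Agent.Sga1.KummerTame
import Groth.Agent.Etalg.RamBasic
import Groth.Agent.S1989
import Mathlib.FieldTheory.IsAlgClosed.AlgebraicClosure
import Mathlib.FieldTheory.SeparableClosure
import Mathlib.RingTheory.DiscreteValuationRing.Basic

/-!
# Extensions of the fraction field of a DVR generated by roots of order prime to the residue
characteristic are tamely ramified
-/

set_option autoImplicit false
universe u

open IsLocalRing EtRam

namespace Groth.Agent.Pi1.H390.KumTame

theorem isSeparable_of_pow {K L : Type*} [Field K] [Field L] [Algebra K L] {x : L} {n : ℕ}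
    (hn : (n : K) ≠ 0) {c : K} (hc : c ≠ 0) (hx : x ^ n = algebraMap K L c) : IsSeparable K x := by
  have h1 : (Polynomial.X ^ n - Polynomial.C c : Polynomial K).Separable :=
    Polynomial.separable_X_pow_sub_C c hn hc
  refine h1.of_dvd (minpoly.dvd K x ?_)
  simp [hx]

section Unif

variable {R L : Type u} [CommRing R] [IsDomain R] [IsDiscreteValuationRing R] [Field L]
  (g : R →+* L) (hg : Function.Injective g) {ι : Type} [Finite ι] (τ : ι → L) (m : ι → ℕ)
  (hm : ∀ j, 1 ≤ m j) (a : ι → R) (hτ : ∀ j, τ j ^ m j = g (a j)) (hmu : ∀ j, IsUnit ((m j : ℕ) : R))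
  (hgen : Subfield.closure (Set.range g ∪ Set.range τ) = ⊤)

include hg hm hτ hmu hgen in
/-- The case where the roots are roots of units, but for one which is a root of a uniformizer. -/
theorem of_uniformizer (i : ι) (hi : maximalIdeal R = Ideal.span {a i})
    (hu : ∀ j, j ≠ i → IsUnit (a j)) : IsTamelyRamified R g := by
  intro V hV
  let _ : Algebra R V := (RingHom.codRestrict g V hV.1).toAlgebra
  intro hloc
  have htV : ∀ j, τ j ∈ V := fun j =>
    Sga1.KummerTame.mem_of_pow_mem V (hm j) (by rw [hτ]; exact hV.1 _)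
  let τV : ι → V := fun j => ⟨τ j, htV j⟩
  have hτV : ∀ j, τV j ^ m j = algebraMap R V (a j) := fun j => Subtype.ext (hτ j)
  have hai : a i ≠ 0 := by
    intro h0
    rw [h0, Ideal.span_singleton_zero] at hi
    exact IsDiscreteValuationRing.not_a_field R hi
  have hne : τV i ≠ 0 := by
    intro h0
    have h1 : τ i = 0 := congrArg Subtype.val h0
    have h2 := hτ i
    rw [h1, zero_pow (by have := hm i; omega)] at h2
    exact hai (hg (by rw [← h2, map_zero]))
  have hcl : ∀ y ∈ Subring.closure (Set.range g ∪ Set.range τ),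
      ∃ c : V, c ∈ Algebra.adjoin R (Set.range τV) ∧ (c : L) = y := by
    intro y hy
    induction hy using Subring.closure_induction with
    | mem x hx =>
      rcases hx with ⟨r, rfl⟩ | ⟨j, rfl⟩
      · exact ⟨algebraMap R V r, Subalgebra.algebraMap_mem _ _, rfl⟩
      · exact ⟨τV j, Algebra.subset_adjoin ⟨j, rfl⟩, rfl⟩
    | zero => exact ⟨0, zero_mem _, rfl⟩
    | one => exact ⟨1, one_mem _, rfl⟩
    | add x y _ _ hx hy =>
      obtain ⟨c, hc, hc'⟩ := hx
      obtain ⟨d, hd, hd'⟩ := hy
      exact ⟨c + d, add_mem hc hd, by rw [← hc', ← hd']; rfl⟩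
    | neg x _ hx =>
      obtain ⟨c, hc, hc'⟩ := hx
      exact ⟨-c, neg_mem hc, by rw [← hc']; rfl⟩
    | mul x y _ _ hx hy =>
      obtain ⟨c, hc, hc'⟩ := hx
      obtain ⟨d, hd, hd'⟩ := hy
      exact ⟨c * d, mul_mem hc hd, by rw [← hc', ← hd']; rfl⟩
  have hfrac : ∀ x : L, ∃ c s : V, c ∈ Algebra.adjoin R (Set.range τV) ∧
      s ∈ Algebra.adjoin R (Set.range τV) ∧ s ≠ 0 ∧ x * s = c := by
    intro x
    have hx : x ∈ Subfield.closure (Set.range g ∪ Set.range τ) := by rw [hgen]; trivial
    obtain ⟨y, hy, z, hz, rfl⟩ := Subfield.mem_closure_iff.mp hx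
    by_cases hz0 : z = 0
    · exact ⟨0, 1, zero_mem _, one_mem _, one_ne_zero, by rw [hz0, div_zero, zero_mul]; rfl⟩
    · obtain ⟨c, hc, hc'⟩ := hcl y hy
      obtain ⟨s, hs, hs'⟩ := hcl z hz
      refine ⟨c, s, hc, hs, ?_, ?_⟩
      · rintro rfl
        exact hz0 hs'.symm
      · rw [hc', hs', div_mul_cancel₀ _ hz0]
  obtain ⟨h1, h2⟩ := Sga1.KummerDVR.main V τV m hm a hτV i hi hu (fun j _ => hmu j) hne hfrac
  refine ⟨h1, fun p hp hchar hdvd => ?_⟩
  rw [Sga1.KummerTame.ramificationIdx'_eq (a i) (τV i) (m i) hi h2 hne (hτV i)] at hdvd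
  have h3 : ((m i : ℕ) : ResidueField R) = 0 := (CharP.cast_eq_zero_iff _ p _).mpr hdvd
  have h4 := (hmu i).map (residue R)
  rw [map_natCast, h3] at h4
  exact not_isUnit_zero h4

end Unif

section Adj

variable {R L : Type u} [CommRing R] [IsDomain R] [IsDiscreteValuationRing R] [Field L]
  (g : R →+* L) (hg : Function.Injective g) {ι : Type} [Fintype ι] (τ : ι → L) (m : ι → ℕ)
  (hm : ∀ j, 1 ≤ m j) (u : ι → Rˣ) (k : ι → ℕ) (ϖ : R) (hϖ : Irreducible ϖ)
  (hτ : ∀ j, τ j ^ m j = g (u j * ϖ ^ k j)) (hmu : ∀ j, IsUnit ((m j : ℕ) : R))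
  (hgen : Subfield.closure (Set.range g ∪ Set.range τ) = ⊤)
  {M : Type u} [Field M] [Algebra L M] (ρ : M) (hρ : ρ ^ (∏ j, m j) = algebraMap L M (g ϖ))
  (hM : Algebra.adjoin L {ρ} = ⊤)

/-- the new generators -/
noncomputable def gen : Option ι → M
  | none => ρ
  | some j => algebraMap L M (τ j) / ρ ^ ((∏ i, m i) / m j * k j)

/-- the exponents of the new generators -/
def expo : Option ι → ℕ
  | none => ∏ i, m i
  | some j => m j

/-- the powers of the new generators -/
def pw : Option ι → R
  | none => ϖ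
  | some j => u j

omit [IsDomain R] [IsDiscreteValuationRing R] in
include hm in
theorem one_le_prod : 1 ≤ ∏ i, m i := Finset.one_le_prod' fun i _ => hm i

omit [IsDomain R] [IsDiscreteValuationRing R] in
include hg hϖ hm hρ in
theorem rho_ne_zero : ρ ≠ 0 := by
  intro h0
  rw [h0, zero_pow (by have := one_le_prod m hm; omega)] at hρ
  have h1 : g ϖ = 0 := (algebraMap L M).injective (by rw [← hρ, map_zero])
  exact hϖ.ne_zero (hg (by rw [h1, map_zero]))

include hg hϖ hm hτ hρ in
theorem gen_pow (j : Option ι) :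
    gen τ m k ρ j ^ expo m j = algebraMap L M (g (pw u ϖ j)) := by
  have hρ0 := rho_ne_zero g hg m hm ϖ hϖ ρ hρ
  match j with
  | none => exact hρ
  | some j =>
    change (algebraMap L M (τ j) / ρ ^ ((∏ i, m i) / m j * k j)) ^ m j = algebraMap L M (g (u j))
    have hdvd : (∏ i, m i) / m j * m j = ∏ i, m i :=
      Nat.div_mul_cancel (Finset.dvd_prod_of_mem m (Finset.mem_univ j))
    have h1 : (ρ ^ ((∏ i, m i) / m j * k j)) ^ m j = algebraMap L M (g ϖ) ^ k j := by
      rw [← pow_mul, mul_right_comm, hdvd, pow_mul, hρ]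
    rw [div_pow, ← map_pow, hτ, h1, map_mul, map_mul, map_pow, map_pow, mul_div_assoc, div_self,
      mul_one]
    rw [← hρ]
    exact pow_ne_zero _ (pow_ne_zero _ hρ0)

include hg hϖ hm hρ hgen hM in
theorem closure_gen : Subfield.closure (Set.range ((algebraMap L M).comp g) ∪
    Set.range (gen τ m k ρ)) = ⊤ := by
  have hρ0 := rho_ne_zero g hg m hm ϖ hϖ ρ hρ
  set F := Subfield.closure (Set.range ((algebraMap L M).comp g) ∪ Set.range (gen τ m k ρ)) with hF
  have hρF : ρ ∈ F := Subfield.subset_closure (Or.inr ⟨none, rfl⟩)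
  have hL : ∀ x : L, algebraMap L M x ∈ F := by
    intro x
    have hx : x ∈ Subfield.closure (Set.range g ∪ Set.range τ) := by rw [hgen]; trivial
    have h2 : Subfield.closure (Set.range g ∪ Set.range τ) ≤ F.comap (algebraMap L M) := by
      rw [Subfield.closure_le]
      rintro _ (⟨r, rfl⟩ | ⟨j, rfl⟩)
      · exact Subfield.subset_closure (Or.inl ⟨r, rfl⟩)
      · change algebraMap L M (τ j) ∈ F
        have h3 : algebraMap L M (τ j) = gen τ m k ρ (some j) * ρ ^ ((∏ i, m i) / m j * k j) := by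
          change _ = (algebraMap L M (τ j) / ρ ^ ((∏ i, m i) / m j * k j)) * _
          rw [div_mul_cancel₀ _ (pow_ne_zero _ hρ0)]
        rw [h3]
        exact mul_mem (Subfield.subset_closure (Or.inr ⟨some j, rfl⟩)) (pow_mem hρF _)
    exact h2 hx
  rw [eq_top_iff]
  rintro x -
  have hx : x ∈ Algebra.adjoin L {ρ} := by rw [hM]; trivial
  induction hx using Algebra.adjoin_induction with
  | mem x hx => rw [Set.mem_singleton_iff.mp hx]; exact hρF
  | algebraMap r => exact hL r
  | add x y _ _ hx hy => exact add_mem hx hy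
  | mul x y _ _ hx hy => exact mul_mem hx hy

include hg hϖ hm hτ hρ hgen hM hmu in
theorem tame_adj : IsTamelyRamified R ((algebraMap L M).comp g) := by
  refine of_uniformizer ((algebraMap L M).comp g) ((algebraMap L M).injective.comp hg)
    (gen τ m k ρ) (expo m) ?_ (pw u ϖ) ?_ ?_ ?_ none ?_ ?_
  · rintro (_ | j)
    · exact one_le_prod m hm
    · exact hm j
  · exact gen_pow g hg τ m hm u k ϖ hϖ hτ ρ hρ
  · rintro (_ | j)
    · change IsUnit (((∏ i, m i : ℕ) : ℕ) : R)
      rw [Nat.cast_prod]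
      exact Finset.prod_induction _ IsUnit (fun _ _ => IsUnit.mul) isUnit_one fun i _ => hmu i
    · exact hmu j
  · exact closure_gen g hg τ m hm k ϖ hϖ hgen ρ hρ hM
  · exact hϖ.maximalIdeal_eq
  · rintro (_ | j) hj
    · exact absurd rfl hj
    · exact (u j).isUnit

include hg hϖ hm hτ hρ hgen hM hmu in
theorem tame_descend : IsTamelyRamified R g := by
  have htame := tame_adj g hg τ m hm u k ϖ hϖ hτ hmu hgen ρ hρ hM
  have hcl := closure_gen g hg τ m hm k ϖ hϖ hgen ρ hρ hM
  have hpow := gen_pow g hg τ m hm u k ϖ hϖ hτ ρ hρ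
  let K := FractionRing R
  let _ : Algebra K L := (IsFractionRing.lift hg).toAlgebra
  have hKL : (algebraMap K L).comp (algebraMap R K) = g := by
    ext r
    exact IsFractionRing.lift_algebraMap hg r
  let _ : Algebra K M := ((algebraMap L M).comp (algebraMap K L)).toAlgebra
  have tower : IsScalarTower K L M := IsScalarTower.of_algebraMap_eq' rfl
  have hRM : (algebraMap K M).comp (algebraMap R K) = (algebraMap L M).comp g := by
    rw [← hKL]; rfl
  have hexpo : ∀ j, ((expo m j : ℕ) : K) ≠ 0 := by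
    have h1 : ∀ j, IsUnit ((expo m j : ℕ) : R) := by
      rintro (_ | j)
      · change IsUnit (((∏ i, m i : ℕ) : ℕ) : R)
        rw [Nat.cast_prod]
        exact Finset.prod_induction _ IsUnit (fun _ _ => IsUnit.mul) isUnit_one fun i _ => hmu i
      · exact hmu j
    intro j
    have := (h1 j).map (algebraMap R K)
    rw [map_natCast] at this
    exact this.ne_zero
  have hpw : ∀ j, pw u ϖ j ≠ 0 := by
    rintro (_ | j)
    · exact hϖ.ne_zero
    · exact (u j).ne_zero
  have hsepj : ∀ j, IsSeparable K (gen τ m k ρ j) := fun j =>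
    isSeparable_of_pow (hexpo j) (c := algebraMap R K (pw u ϖ j))
      (by rw [Ne, IsFractionRing.to_map_eq_zero_iff]; exact hpw j)
      (by rw [hpow, ← RingHom.comp_apply (algebraMap K M), hRM]; rfl)
  have htop : IntermediateField.adjoin K (Set.range (gen τ m k ρ)) = ⊤ := by
    rw [eq_top_iff]
    rintro x -
    have hx : x ∈ Subfield.closure (Set.range ((algebraMap L M).comp g) ∪
      Set.range (gen τ m k ρ)) := by rw [hcl]; trivial
    have h2 : Subfield.closure (Set.range ((algebraMap L M).comp g) ∪ Set.range (gen τ m k ρ)) ≤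
        (IntermediateField.adjoin K (Set.range (gen τ m k ρ))).toSubfield := by
      rw [Subfield.closure_le]
      rintro _ (⟨r, rfl⟩ | ⟨j, rfl⟩)
      · rw [← hRM]
        exact IntermediateField.algebraMap_mem _ _
      · exact IntermediateField.subset_adjoin K _ ⟨j, rfl⟩
    exact h2 hx
  have hfd : FiniteDimensional K M := by
    have h1 : FiniteDimensional K (IntermediateField.adjoin K (Set.range (gen τ m k ρ))) :=
      IntermediateField.finiteDimensional_adjoin (by
        rintro _ ⟨j, rfl⟩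
        exact (hsepj j).isIntegral)
    rw [htop] at h1
    exact IntermediateField.topEquiv.toLinearEquiv.finiteDimensional
  have hsep : Algebra.IsSeparable K M := by
    have h1 : Algebra.IsSeparable K (IntermediateField.adjoin K (Set.range (gen τ m k ρ))) :=
      (IntermediateField.isSeparable_adjoin_iff_isSeparable K M).mpr (by
        rintro _ ⟨j, rfl⟩
        exact hsepj j)
    rw [htop] at h1
    exact (AlgEquiv.Algebra.isSeparable_iff IntermediateField.topEquiv).mp h1
  have hfin := (Groth.Agent.S1989.result R K L M).1 (by rw [hRM]; exact htame)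
  rwa [hKL] at hfin

end Adj

section Main

variable {R L : Type u} [CommRing R] [IsDomain R] [IsDiscreteValuationRing R] [Field L]
  (g : R →+* L) (hg : Function.Injective g) {ι : Type} [Finite ι] (τ : ι → L) (m : ι → ℕ)
  (hm : ∀ j, 1 ≤ m j) (a : ι → R) (ha : ∀ j, a j ≠ 0) (hτ : ∀ j, τ j ^ m j = g (a j))
  (hmu : ∀ j, IsUnit ((m j : ℕ) : R))
  (hgen : Subfield.closure (Set.range g ∪ Set.range τ) = ⊤)

include hg hm ha hτ hmu hgen in
/-- **Kummer extensions are tame.** `R` a DVR, `L` a field generated over `R` (as a field) by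
finitely many elements `τ j` with `τ j ^ m j ∈ R` nonzero, `m j` a unit of `R`: then `L` is tamely
ramified over `R`. -/
theorem main : IsTamelyRamified R g := by
  classical
  cases nonempty_fintype ι
  obtain ⟨ϖ, hϖ⟩ := IsDiscreteValuationRing.exists_irreducible R
  have hk : ∀ j, ∃ (k : ℕ) (u : Rˣ), a j = u * ϖ ^ k := fun j =>
    IsDiscreteValuationRing.eq_unit_mul_pow_irreducible (ha j) hϖ
  choose k u hku using hk
  have hτ' : ∀ j, τ j ^ m j = g (u j * ϖ ^ k j) := fun j => by rw [hτ, hku]
  let Ω := AlgebraicClosure L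
  obtain ⟨ρ', hρ'⟩ : ∃ ρ' : Ω, ρ' ^ (∏ j, m j) = algebraMap L Ω (g ϖ) :=
    IsAlgClosed.exists_pow_nat_eq _ (one_le_prod m hm)
  have hint : IsIntegral L ρ' := Algebra.IsIntegral.isIntegral ρ'
  let M := IntermediateField.adjoin L {ρ'}
  let ρ : M := ⟨ρ', IntermediateField.mem_adjoin_simple_self L ρ'⟩
  have hρ : ρ ^ (∏ j, m j) = algebraMap L M (g ϖ) := Subtype.ext hρ'
  have hM : Algebra.adjoin L {ρ} = ⊤ := by
    have h := (IntermediateField.adjoin.powerBasis hint).adjoin_gen_eq_top
    rwa [IntermediateField.adjoin.powerBasis_gen] at h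
  exact tame_descend g hg τ m hm u k ϖ hϖ hτ' hmu hgen ρ hρ hM

end Main

end Groth.Agent.Pi1.H390.KumTame
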