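import Groth.Prelude.Def_SGA1t
import Groth.Agent.Pi1.H390.ResGen
import Groth.Agent.Pi1.H390.KumTame

/-!
# Covers generated by roots of order invertible on `X` are relatively tame
-/

set_option autoImplicit false
universe u

namespace Groth.Agent.Pi1.H390.SchTame

open AlgebraicGeometry CategoryTheory CategoryTheory.Limits
open Groth.Agent.Pi1.H390.ResGen

variable {X S : Scheme.{u}}

theorem Γevaluation_eq {Y : Scheme.{u}} {y u : Y} (h : u ⤳ y) (s : Γ(Y, ⊤)) :
    Y.Γevaluation u s = ((Y.residue u).hom.comp (Y.presheaf.stalkSpecializes h).hom)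
      (Y.presheaf.germ ⊤ y trivial s) := by
  rw [RingHom.comp_apply, ← CommRingCat.comp_apply (Y.presheaf.germ ⊤ y trivial),
    TopCat.Presheaf.germ_stalkSpecializes]
  rfl

/-- The field-theoretic core: Let `q : V ⟶ X` be such that the residue fields of `V` are generated
over those of `X` by `m i`-th roots `t i` of functions `c i` on `X` which are invertible on the
image of `q`, with `m i` invertible on `X`. -/
theorem core {V : Scheme.{u}} (q : V ⟶ X) {ι : Type} [Finite ι] (m : ι → ℕ) (hm : ∀ i, 1 ≤ m i)
    (hmu : ∀ i, IsUnit ((m i : ℕ) : Γ(X, ⊤))) (c : ι → Γ(X, ⊤))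
    (hc : ∀ i (v : V), q v ∈ X.basicOpen (c i)) (t : ι → Γ(V, ⊤))
    (ht : ∀ i, t i ^ m i = q.appTop (c i))
    (hgen : ∀ v : V, Subfield.closure (Set.range (q.residueFieldMap v).hom ∪
      Set.range fun i => V.Γevaluation v (t i)) = ⊤)
    {Xσ : Scheme.{u}} (p : Xσ ⟶ X) (y : Xσ) [IsDomain (Xσ.presheaf.stalk y)]
    [IsDiscreteValuationRing (Xσ.presheaf.stalk y)] (w : ↥(pullback q p))
    (h : (pullback.snd q p).base w ⤳ y) (hne : (pullback.snd q p).base w ≠ y) :
    EtRam.IsTamelyRamified (Xσ.presheaf.stalk y)
      (((pullback.snd q p).residueFieldMap w).hom.comp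
        ((Xσ.residue _).hom.comp (Xσ.presheaf.stalkSpecializes h).hom)) := by
  set g := ((pullback.snd q p).residueFieldMap w).hom.comp
        ((Xσ.residue _).hom.comp (Xσ.presheaf.stalkSpecializes h).hom) with hgdef
  have hg : Function.Injective g :=
    ((pullback.snd q p).residueFieldMap w).hom.injective.comp
      (injective_of_isDiscreteValuationRing h hne)
  let a : ι → Xσ.presheaf.stalk y := fun i => Xσ.presheaf.germ ⊤ y trivial (p.appTop (c i))
  let τ : ι → (pullback q p).residueField w := fun i =>
    (pullback q p).Γevaluation w ((pullback.fst q p).appTop (t i))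
  have hcomm : ∀ s : Γ(X, ⊤), (pullback.fst q p).appTop (q.appTop s) =
      (pullback.snd q p).appTop (p.appTop s) := fun s => by
    rw [← CommRingCat.comp_apply, ← CommRingCat.comp_apply, ← Scheme.Hom.comp_appTop,
      ← Scheme.Hom.comp_appTop, pullback.condition]
  have hga : ∀ i, g (a i) = (pullback q p).Γevaluation w
      ((pullback.fst q p).appTop (q.appTop (c i))) := fun i => by
    rw [hcomm, ← Scheme.Γevaluation_naturality_apply, Γevaluation_eq h]
    rfl
  have hτ : ∀ i, τ i ^ m i = g (a i) := fun i => by
    rw [hga, ← ht, map_pow, map_pow]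
  have ha : ∀ i, a i ≠ 0 := by
    intro i h0
    have h1 := hga i
    rw [h0, map_zero, ← Scheme.Γevaluation_naturality_apply,
      ← Scheme.Γevaluation_naturality_apply] at h1
    have h2 : X.Γevaluation (q (pullback.fst q p w)) (c i) = 0 := by
      apply (q.residueFieldMap (pullback.fst q p w)).hom.injective
      apply ((pullback.fst q p).residueFieldMap w).hom.injective
      rw [map_zero, map_zero]
      exact h1.symm
    rw [Scheme.evaluation_eq_zero_iff_notMem_basicOpen] at h2
    exact h2 (hc i _)
  have hmu' : ∀ i, IsUnit ((m i : ℕ) : Xσ.presheaf.stalk y) := fun i => by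
    have h1 := ((hmu i).map p.appTop.hom).map (Xσ.presheaf.germ ⊤ y trivial).hom
    rwa [map_natCast, map_natCast] at h1
  refine KumTame.main g hg τ m hm a ha hτ hmu' ?_
  set F := Subfield.closure (Set.range g ∪ Set.range τ) with hF
  have hsnd : ∀ z, ((pullback.snd q p).residueFieldMap w).hom z ∈ F := by
    intro z
    have hz : z ∈ Subfield.closure (Set.range ((Xσ.residue _).hom.comp
        (Xσ.presheaf.stalkSpecializes h).hom)) := by
      have := gen_residue_stalkSpecializes h
      unfold Gen at this
      rw [this]; trivial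
    have h2 : Subfield.closure (Set.range ((Xσ.residue _).hom.comp
        (Xσ.presheaf.stalkSpecializes h).hom)) ≤
        F.comap ((pullback.snd q p).residueFieldMap w).hom := by
      rw [Subfield.closure_le]
      rintro _ ⟨s, rfl⟩
      exact Subfield.subset_closure (Or.inl ⟨s, rfl⟩)
    exact h2 hz
  have hfst : ∀ z, ((pullback.fst q p).residueFieldMap w).hom z ∈ F := by
    intro z
    have hz : z ∈ Subfield.closure (Set.range (q.residueFieldMap (pullback.fst q p w)).hom ∪
      Set.range fun i => V.Γevaluation (pullback.fst q p w) (t i)) := by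
      rw [hgen]; trivial
    have h2 : Subfield.closure (Set.range (q.residueFieldMap (pullback.fst q p w)).hom ∪
      Set.range fun i => V.Γevaluation (pullback.fst q p w) (t i)) ≤
        F.comap ((pullback.fst q p).residueFieldMap w).hom := by
      rw [Subfield.closure_le]
      rintro _ (⟨s, rfl⟩ | ⟨i, rfl⟩)
      · have h3 : ((pullback.fst q p).residueFieldMap w).hom
            ((q.residueFieldMap (pullback.fst q p w)).hom s) =
            ((pullback.snd q p).residueFieldMap w).hom
              ((p.residueFieldMap (pullback.snd q p w)).hom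
                ((X.residueFieldCongr (by
                  rw [← Scheme.Hom.comp_apply, ← Scheme.Hom.comp_apply, pullback.condition])).hom s)) := by
          have h4 := Scheme.Hom.residueFieldMap_congr (pullback.condition (f := q) (g := p)) w
          rw [Scheme.residueFieldMap_comp, Scheme.residueFieldMap_comp] at h4
          exact congrArg (fun φ => φ.hom s) h4
        change ((pullback.fst q p).residueFieldMap w).hom
            ((q.residueFieldMap (pullback.fst q p w)).hom s) ∈ F
        rw [h3]
        exact hsnd _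
      · change ((pullback.fst q p).residueFieldMap w) (V.Γevaluation (pullback.fst q p w) (t i)) ∈ F
        rw [Scheme.Γevaluation_naturality_apply]
        exact Subfield.subset_closure (Or.inr ⟨i, rfl⟩)
    exact h2 hz
  rw [eq_top_iff, ← closure_residueFieldMap w, Subfield.closure_le]
  rintro _ (⟨z, rfl⟩ | ⟨z, rfl⟩)
  · exact hfst z
  · exact hsnd z

/-- A finite etale cover of the complement whose residue fields are generated by `m i`-th roots of
functions `c i` invertible on the complement, the `m i` being invertible on `X`, is relatively tame. -/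
theorem isRelTame (f : X ⟶ S) {r : ℕ} (φ : Fin r → Γ(X, ⊤)) (V : FEt.Cat (SGA1t.compl φ : Scheme.{u}))
    {ι : Type} [Finite ι] (m : ι → ℕ) (hm : ∀ i, 1 ≤ m i)
    (hmu : ∀ i, IsUnit ((m i : ℕ) : Γ(X, ⊤))) (c : ι → Γ(X, ⊤))
    (hc : ∀ i, SGA1t.compl φ ≤ X.basicOpen (c i)) (t : ι → Γ(V.left, ⊤))
    (ht : ∀ i, t i ^ m i = (V.hom ≫ (SGA1t.compl φ).ι).appTop (c i))
    (hgen : ∀ v : V.left, Subfield.closure
      (Set.range ((V.hom ≫ (SGA1t.compl φ).ι).residueFieldMap v).hom ∪
      Set.range fun i => V.left.Γevaluation v (t i)) = ⊤) :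
    SGA1t.IsRelTame f φ V := by
  intro Ω _ _ σ _ y _ hdvr w h hne
  refine core (V.hom ≫ (SGA1t.compl φ).ι) m hm hmu c (fun i v => hc i ?_) t ht hgen
    (pullback.fst f σ) y w h hne
  rw [Scheme.Hom.comp_apply]
  exact (V.hom v).2

end Groth.Agent.Pi1.H390.SchTame
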