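import Groth.Agent.Pi1.H390.KumBasic
import Groth.Agent.Pi1.H390.SchTame
import Mathlib.RingTheory.RingHom.Etale
import Mathlib.RingTheory.Localization.BaseChange

/-!
# The Kummer cover of an affine scheme: finite, etale and relatively tame over the complement
-/

set_option autoImplicit false
universe u

namespace Groth.Agent.Pi1.H390.KumSch

open AlgebraicGeometry CategoryTheory CategoryTheory.Limits TensorProduct
open Groth.Agent.Pi1.H390.KumBasic

section Alg

attribute [local instance] Algebra.TensorProduct.rightAlgebra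

theorem etale_awayMap {A B : Type u} [CommRing A] [CommRing B] [Algebra A B] (F : A)
    (h : Algebra.Etale (Localization.Away F) (Localization.Away F ⊗[A] B)) :
    (Localization.awayMap (algebraMap A B) F).Etale := by
  let A' := Localization.Away F
  let e : A' ⊗[A] B ≃ₐ[B] Localization.Away (algebraMap A B F) :=
    IsLocalization.Away.tensorRightEquiv B F A'
  have h3 : (e : A' ⊗[A] B →+* Localization.Away (algebraMap A B F)).Etale :=
    RingHom.Etale.of_bijective e.bijective
  have h4 : (algebraMap A' (A' ⊗[A] B)).Etale := RingHom.etale_algebraMap.mpr h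
  have h5 := RingHom.Etale.stableUnderComposition _ _ h4 h3
  convert h5
  refine IsLocalization.ringHom_ext (Submonoid.powers F) ?_
  ext x
  simp only [RingHom.comp_apply]
  have h6 : Localization.awayMap (algebraMap A B) F (algebraMap A A' x) =
      algebraMap B (Localization.Away (algebraMap A B F)) (algebraMap A B x) :=
    IsLocalization.map_eq _ _
  rw [h6]
  have h7 : algebraMap A' (A' ⊗[A] B) (algebraMap A A' x) = algebraMap B (A' ⊗[A] B) (algebraMap A B x) := by
    rw [← IsScalarTower.algebraMap_apply, ← IsScalarTower.algebraMap_apply]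
  rw [h7]
  exact (e.commutes _).symm

theorem etale_restrict {A B : Type u} [CommRing A] [CommRing B] [Algebra A B] (F : A)
    (h : Algebra.Etale (Localization.Away F) (Localization.Away F ⊗[A] B))
    (U : (Spec (CommRingCat.of A)).Opens) (hU : U = PrimeSpectrum.basicOpen F) :
    Etale (Spec.map (CommRingCat.ofHom (algebraMap A B)) ∣_ U) := by
  subst hU
  have h1 := (MorphismProperty.arrow_mk_iso_iff @AlgebraicGeometry.Etale
    (SpecMapRestrictBasicOpenIso (CommRingCat.ofHom (algebraMap A B)) F))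
  refine h1.2 ?_
  rw [HasRingHomProperty.Spec_iff (P := @AlgebraicGeometry.Etale)]
  exact etale_awayMap F h

variable {A : Type u} [CommRing A] {ι : Type} [Finite ι] (a : ι → A) (n : ι → ℕ)

theorem etale_tensor (F : A) (hn : ∀ i, 1 ≤ n i) (hu : ∀ i, IsUnit ((n i : ℕ) : A))
    (ha : ∀ i, IsUnit (algebraMap A (Localization.Away F) (a i))) :
    Algebra.Etale (Localization.Away F) (Localization.Away F ⊗[A] (SGA1t.kummer A a n)) := by
  let A' := Localization.Away F
  have hu' : ∀ i, IsUnit ((n i : ℕ) : A') := fun i => by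
    have := (hu i).map (algebraMap A A')
    rwa [map_natCast] at this
  have h1 : Algebra.Etale A' (SGA1t.kummer A' (fun i => algebraMap A A' (a i)) n) :=
    KumBasic.etale _ n hn hu' ha
  exact Algebra.Etale.of_equiv (bc a n A' (fun i => algebraMap A A' (a i)) (fun _ => rfl)).symm

end Alg

section Sch

variable {A : Type u} [CommRing A] {ι : Type} [Finite ι] (a : ι → A) (n : ι → ℕ)
  (hn : ∀ i, 1 ≤ n i) (hu : ∀ i, IsUnit ((n i : ℕ) : A))
  {r : ℕ} (φ : Fin r → Γ(Spec (CommRingCat.of A), ⊤))
  (hφ : ∀ i, SGA1t.compl φ ≤ PrimeSpectrum.basicOpen (a i))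

/-- The structure morphism of the Kummer cover. -/
noncomputable abbrev π : Spec (CommRingCat.of (SGA1t.kummer A a n)) ⟶ Spec (CommRingCat.of A) :=
  Spec.map (CommRingCat.ofHom (algebraMap A (SGA1t.kummer A a n)))

include hn in
theorem isFinite : IsFinite (π a n ∣_ SGA1t.compl φ) := by
  have h1 : IsFinite (π a n) := by
    rw [IsFinite.SpecMap_iff]
    have := KumBasic.finite a n hn
    exact RingHom.finite_algebraMap.mpr this
  exact IsZariskiLocalAtTarget.restrict h1 _

omit [Finite ι] in
theorem compl_eq : SGA1t.compl φ = PrimeSpectrum.basicOpen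
    ((Scheme.ΓSpecIso (CommRingCat.of A)).hom (∏ i, φ i)) := basicOpen_eq_of_affine' _

include hn hu hφ in
theorem etale : Etale (π a n ∣_ SGA1t.compl φ) := by
  refine etale_restrict ((Scheme.ΓSpecIso (CommRingCat.of A)).hom (∏ i, φ i)) ?_ _ (compl_eq φ)
  refine etale_tensor a n _ hn hu fun i => ?_
  have h1 := hφ i
  rw [compl_eq] at h1
  exact PrimeSpectrum.basicOpen_le_basicOpen_iff_algebraMap_isUnit.mp h1

/-- The residue fields of an affine scheme are generated by the global functions. -/
theorem closure_Γevaluation {B : CommRingCat.{u}} (b : Spec B) :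
    Subfield.closure (Set.range fun x : B =>
      (Spec B).Γevaluation b ((Scheme.ΓSpecIso B).inv x)) = ⊤ := by
  have hp : b.asIdeal.IsPrime := PrimeSpectrum.isPrime b
  have hg := @ResGen.gen_residueField _ _ b.asIdeal hp
  unfold ResGen.Gen at hg
  have h0 : ∀ x : B, (Spec B).Γevaluation b ((Scheme.ΓSpecIso B).inv x) =
      (Scheme.Spec.residueFieldIso B b).inv (algebraMap B b.asIdeal.ResidueField x) := fun x =>
    (congrArg (fun φ => φ.hom x) (Scheme.Spec.algebraMap_residueFieldIso_inv B b)).symm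
  have h1 : (Set.range fun x : B => (Spec B).Γevaluation b ((Scheme.ΓSpecIso B).inv x)) =
      (Scheme.Spec.residueFieldIso B b).inv.hom '' Set.range (algebraMap B b.asIdeal.ResidueField) := by
    rw [← Set.range_comp]
    congr 1
    ext x
    exact h0 x
  rw [h1, ← RingHom.map_field_closure (Scheme.Spec.residueFieldIso B b).inv.hom]
  rw [eq_top_iff]
  rintro z -
  obtain ⟨z', rfl⟩ := (ConcreteCategory.bijective_of_isIso
    (Scheme.Spec.residueFieldIso B b).inv).2 z
  refine ⟨z', ?_, rfl⟩
  change z' ∈ Subfield.closure _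
  erw [hg]
  trivial

include hn hu hφ in
theorem isRelTame {S : Scheme.{u}} (f : Spec (CommRingCat.of A) ⟶ S)
    (hF : IsFinite (π a n ∣_ SGA1t.compl φ)) (hE : Etale (π a n ∣_ SGA1t.compl φ)) :
    SGA1t.IsRelTame f φ (MorphismProperty.Over.mk ⊤ (π a n ∣_ SGA1t.compl φ) ⟨hF, hE⟩) := by
  let U := SGA1t.compl φ
  let B := SGA1t.kummer A a n
  have hq : (π a n ∣_ SGA1t.compl φ) ≫ U.ι = (π a n ⁻¹ᵁ U).ι ≫ π a n := morphismRestrict_ι _ _
  have hpi : ∀ x : A, (π a n).appTop ((Scheme.ΓSpecIso (CommRingCat.of A)).inv x) =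
      (Scheme.ΓSpecIso (CommRingCat.of B)).inv (algebraMap A B x) := fun x => by
    have := Scheme.ΓSpecIso_inv_naturality (CommRingCat.ofHom (algebraMap A B))
    exact (congrArg (fun φ => φ.hom x) this).symm
  have ht : ∀ i, ((π a n ⁻¹ᵁ U).ι.appTop ((Scheme.ΓSpecIso (CommRingCat.of B)).inv (T a n i)) :
      Γ(↑(π a n ⁻¹ᵁ U), ⊤)) ^ n i = ((π a n ∣_ SGA1t.compl φ) ≫ U.ι).appTop
        ((Scheme.ΓSpecIso (CommRingCat.of A)).inv (a i)) := fun i => by
    rw [hq, Scheme.Hom.comp_appTop, CommRingCat.comp_apply, hpi, ← map_pow, ← map_pow, T_pow]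
  refine SchTame.isRelTame f φ (MorphismProperty.Over.mk ⊤ (π a n ∣_ SGA1t.compl φ) ⟨hF, hE⟩)
    n hn (fun i => ?_) (fun i => (Scheme.ΓSpecIso (CommRingCat.of A)).inv (a i)) (fun i => ?_)
    (fun i => (π a n ⁻¹ᵁ U).ι.appTop ((Scheme.ΓSpecIso (CommRingCat.of B)).inv (T a n i)))
    (fun i => ?_) (fun v => ?_)
  · have := (hu i).map (Scheme.ΓSpecIso (CommRingCat.of A)).inv.hom
    rwa [map_natCast] at this
  · rw [basicOpen_eq_of_affine]
    exact hφ i
  · exact ht i
  · change Subfield.closure (Set.range (((π a n ∣_ SGA1t.compl φ) ≫ U.ι).residueFieldMap v).hom ∪ _) = ⊤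
    set F := Subfield.closure (Set.range (((π a n ∣_ SGA1t.compl φ) ≫ U.ι).residueFieldMap v).hom ∪
      Set.range fun i => (↑(π a n ⁻¹ᵁ U) : Scheme.{u}).Γevaluation v
        ((π a n ⁻¹ᵁ U).ι.appTop ((Scheme.ΓSpecIso (CommRingCat.of B)).inv (T a n i)))) with hFdef
    have key : ∀ x : B, ((π a n ⁻¹ᵁ U).ι.residueFieldMap v) ((Spec (CommRingCat.of B)).Γevaluation _
        ((Scheme.ΓSpecIso (CommRingCat.of B)).inv x)) ∈ F := by
      intro x
      have hx : x ∈ Algebra.adjoin A (Set.range (T a n)) := by rw [adjoin_T]; trivial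
      induction hx using Algebra.adjoin_induction with
      | mem x hx =>
        obtain ⟨i, rfl⟩ := hx
        rw [Scheme.Γevaluation_naturality_apply]
        exact Subfield.subset_closure (Or.inr ⟨i, rfl⟩)
      | algebraMap x =>
        have h3 : ((π a n ⁻¹ᵁ U).ι.residueFieldMap v) ((Spec (CommRingCat.of B)).Γevaluation _
            ((Scheme.ΓSpecIso (CommRingCat.of B)).inv (algebraMap A B x))) =
            (((π a n ∣_ SGA1t.compl φ) ≫ U.ι).residueFieldMap v)
              ((Spec (CommRingCat.of A)).Γevaluation _ ((Scheme.ΓSpecIso (CommRingCat.of A)).inv x)) := by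
          rw [Scheme.Γevaluation_naturality_apply, Scheme.Γevaluation_naturality_apply, hq,
            Scheme.Hom.comp_appTop, CommRingCat.comp_apply, hpi]
        rw [h3]
        exact Subfield.subset_closure (Or.inl ⟨_, rfl⟩)
      | add x y _ _ hx hy => rw [map_add, map_add, map_add]; exact add_mem hx hy
      | mul x y _ _ hx hy => rw [map_mul, map_mul, map_mul]; exact mul_mem hx hy
    rw [eq_top_iff]
    rintro z -
    obtain ⟨z, rfl⟩ := (ConcreteCategory.bijective_of_isIso ((π a n ⁻¹ᵁ U).ι.residueFieldMap v)).2 z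
    have hz : z ∈ Subfield.closure (Set.range fun x : B =>
      (Spec (CommRingCat.of B)).Γevaluation ((π a n ⁻¹ᵁ U).ι v)
        ((Scheme.ΓSpecIso (CommRingCat.of B)).inv x)) := by
      rw [closure_Γevaluation (B := CommRingCat.of B)]; trivial
    have h2 : Subfield.closure (Set.range fun x : B =>
      (Spec (CommRingCat.of B)).Γevaluation ((π a n ⁻¹ᵁ U).ι v)
        ((Scheme.ΓSpecIso (CommRingCat.of B)).inv x)) ≤
        F.comap ((π a n ⁻¹ᵁ U).ι.residueFieldMap v).hom := by
      rw [Subfield.closure_le]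
      rintro _ ⟨x, rfl⟩
      exact key x
    exact h2 hz

end Sch

end Groth.Agent.Pi1.H390.KumSch
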