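import Groth.Agent.Pi1.H390.T1DD
import Groth.Agent.Sga1.ProperDesc
import Groth.Agent.Sga1.SecRep
import Groth.Agent.S3694

/-!
# Descent of finite étale covers along a proper surjective morphism, detected after a base change

`m : S₁ ⟶ S` universally fully faithful for finite étale covers, `q : S' ⟶ S` proper surjective and
locally of finite presentation. A finite étale cover `Z` of `S₁` comes from `S` as soon as its pullback
to `S' ×_S S₁` comes from `S'`.
-/

set_option autoImplicit false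

universe u

open CategoryTheory CategoryTheory.Limits AlgebraicGeometry

namespace Groth.Agent.Pi1.H390.T1Desc

open Groth.Agent.Pi1A.FEtAffine Groth.Agent.Pi1.H390.T1Sec Groth.Agent.Pi1.H390.T1DD

/-- A morphism of étale schemes over a base which becomes an isomorphism after a universally
submersive base change is an isomorphism. -/
theorem isIso_of_univSubmersive {X Y X' Y' : Scheme.{u}} {g' : X' ⟶ X} {f' : X' ⟶ Y'} {f : X ⟶ Y}
    {g : Y' ⟶ Y} (h : IsPullback g' f' f g) (hg : SGA1.UnivSubmersive g) [Etale f] [IsIso f'] :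
    IsIso f := by
  have h1 : UniversallyInjective f := MorphismProperty.of_isPullback_of_descendsAlong
    (P := @UniversallyInjective) (Q := SGA1.UnivSubmersive) h.flip hg inferInstance
  have h2 : Surjective f := MorphismProperty.of_isPullback_of_descendsAlong
    (P := @Surjective) (Q := SGA1.UnivSubmersive) h.flip hg inferInstance
  have h3 : IsOpenImmersion f := Groth.Agent.S3694.result f
  exact isIso_of_isOpenImmersion_of_opensRange_eq_top f
    (TopologicalSpace.Opens.ext (Set.range_eq_univ.mpr h2.surj))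

section

variable {S S₁ S' P : Scheme.{u}} {m : S₁ ⟶ S} {q : S' ⟶ S} {q₁ : P ⟶ S₁} {m' : P ⟶ S'}
  (hP : IsPullback q₁ m' m q) (V : FEt.Cat S') (Z : FEt.Cat S₁)
  (e : (FEt.restrict m').obj V ≅ (FEt.restrict q₁).obj Z) (hm : UFF m)

/-- `theta` on a scheme which maps to `P`. -/
theorem lift_theta {T : Scheme.{u}} (s : T ⟶ S) (x : T ⟶ S') (hs : x ≫ q = s) (v : T ⟶ V.left)
    (hv : v ≫ V.hom = x) (b : T ⟶ ((FEt.restrict m').obj V).left) (hb : b ≫ proj m' V = v)
    (y : T ⟶ S₁) (hy : y = b ≫ ((FEt.restrict m').obj V).hom ≫ q₁) (hy' : y ≫ m = s) :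
    pullback.lift (𝟙 T) y (by rw [Category.id_comp, hy']) ≫ theta hP V Z e s x hs v hv =
      b ≫ cc V Z e := by
  rw [theta, ← Category.assoc]
  congr 1
  apply (isPullback m' V).hom_ext
  · rw [Category.assoc, vOne_proj, pullback.lift_fst_assoc, Category.id_comp, hb]
  · rw [Category.assoc, vOne_hom]
    apply hP.hom_ext
    · rw [Category.assoc, xOne_fst, pullback.lift_snd, hy, Category.assoc]
    · rw [Category.assoc, xOne_snd, pullback.lift_fst_assoc, Category.id_comp, Category.assoc,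
        ← (isPullback m' V).w, ← Category.assoc, hb, hv]

variable (W : FEt.Cat S) (ψ : (Desc.toDD q).obj (Over.mk W.hom) ≅ dd hP V Z e hm)

/-- The underlying isomorphism. -/
noncomputable def psi : pullback q W.hom ⟶ V.left := ψ.hom.hom.left

theorem psi_hom : psi hP V Z e hm W ψ ≫ V.hom = pullback.fst q W.hom := Over.w ψ.hom.hom

instance isIso_psi : IsIso (psi hP V Z e hm W ψ) := by
  refine ⟨ψ.inv.hom.left, ?_, ?_⟩
  · have h := congrArg (fun a => a.hom.left) ψ.hom_inv_id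
    exact h
  · have h := congrArg (fun a => a.hom.left) ψ.inv_hom_id
    exact h

/-- The map `W₁ ×_{S₁} P ⟶ S' ×_S W`. -/
noncomputable def aux : pullback ((FEt.restrict m).obj W).hom q₁ ⟶ pullback q W.hom :=
  pullback.lift (pullback.snd _ _ ≫ m') (pullback.fst _ _ ≫ proj m W) (by
    rw [Category.assoc, ← hP.w, Category.assoc, (isPullback m W).w, ← Category.assoc,
      ← pullback.condition, Category.assoc])

@[reassoc (attr := simp)]
theorem aux_fst : aux hP W ≫ pullback.fst q W.hom = pullback.snd _ _ ≫ m' :=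
  pullback.lift_fst _ _ _

@[reassoc (attr := simp)]
theorem aux_snd : aux hP W ≫ pullback.snd q W.hom = pullback.fst _ _ ≫ proj m W :=
  pullback.lift_snd _ _ _

theorem isPullback_aux : IsPullback (aux hP W) (pullback.snd ((FEt.restrict m).obj W).hom q₁)
    (pullback.fst q W.hom) m' := by
  have h1 : IsPullback (pullback.fst ((FEt.restrict m).obj W).hom q₁ ≫ proj m W)
      (pullback.snd ((FEt.restrict m).obj W).hom q₁) W.hom (q₁ ≫ m) :=
    (IsPullback.of_hasPullback ((FEt.restrict m).obj W).hom q₁).flip.paste_vert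
      (isPullback m W).flip |>.flip
  rw [← aux_snd hP W, hP.w] at h1
  exact IsPullback.of_right h1 (aux_fst hP W) (IsPullback.of_hasPullback q W.hom).flip

/-- The map `W₁ ×_{S₁} P ⟶ V₁`. -/
noncomputable def tt : pullback ((FEt.restrict m).obj W).hom q₁ ⟶ ((FEt.restrict m').obj V).left :=
  (isPullback m' V).lift (aux hP W ≫ psi hP V Z e hm W ψ) (pullback.snd _ _) (by
    rw [Category.assoc, psi_hom, aux_fst])

theorem tt_proj : tt hP V Z e hm W ψ ≫ proj m' V = aux hP W ≫ psi hP V Z e hm W ψ :=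
  (isPullback m' V).lift_fst _ _ _

theorem tt_hom : tt hP V Z e hm W ψ ≫ ((FEt.restrict m').obj V).hom = pullback.snd _ _ :=
  (isPullback m' V).lift_snd _ _ _

instance isIso_tt : IsIso (tt hP V Z e hm W ψ) := by
  have h1 : IsPullback (aux hP W ≫ psi hP V Z e hm W ψ)
      (pullback.snd ((FEt.restrict m).obj W).hom q₁) V.hom m' := by
    refine IsPullback.of_iso (isPullback_aux hP W) (Iso.refl _) (asIso (psi hP V Z e hm W ψ))
      (Iso.refl _) (Iso.refl _) ?_ ?_ ?_ ?_
    · simp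
    · simp
    · rw [Iso.refl_hom, Category.comp_id, asIso_hom, psi_hom]
    · simp
  have h2 : tt hP V Z e hm W ψ = (h1.isoIsPullback _ _ (isPullback m' V)).hom := by
    apply (isPullback m' V).hom_ext
    · rw [tt_proj]
      exact (IsPullback.isoIsPullback_hom_fst _ _ h1 (isPullback m' V)).symm
    · rw [tt_hom]
      exact (IsPullback.isoIsPullback_hom_snd _ _ h1 (isPullback m' V)).symm
  rw [h2]
  infer_instance

/-- The composite to `Z`. -/
noncomputable def vv : pullback ((FEt.restrict m).obj W).hom q₁ ⟶ Z.left :=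
  tt hP V Z e hm W ψ ≫ cc V Z e

theorem isPullback_vv : IsPullback (vv hP V Z e hm W ψ)
    (pullback.snd ((FEt.restrict m).obj W).hom q₁) Z.hom q₁ := by
  refine IsPullback.of_iso (isPullback_cc V Z e) (asIso (tt hP V Z e hm W ψ)).symm (Iso.refl _)
    (Iso.refl _) (Iso.refl _) ?_ ?_ ?_ ?_
  · rw [Iso.refl_hom, Category.comp_id, Iso.symm_hom, asIso_inv, vv, IsIso.inv_hom_id_assoc]
  · rw [Iso.refl_hom, Category.comp_id, Iso.symm_hom, asIso_inv, IsIso.eq_inv_comp, tt_hom]
  · simp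
  · simp

/-- The descent condition. -/
theorem vv_compat {T : Scheme.{u}} (b₀ b₁ : T ⟶ pullback ((FEt.restrict m).obj W).hom q₁)
    (hb : b₀ ≫ pullback.fst _ _ = b₁ ≫ pullback.fst _ _) :
    b₀ ≫ vv hP V Z e hm W ψ = b₁ ≫ vv hP V Z e hm W ψ := by
  let x₀ : T ⟶ S' := b₀ ≫ pullback.snd _ _ ≫ m'
  let x₁ : T ⟶ S' := b₁ ≫ pullback.snd _ _ ≫ m'
  have hy : b₀ ≫ pullback.snd _ _ ≫ q₁ = b₁ ≫ pullback.snd _ _ ≫ q₁ := by
    rw [← pullback.condition, ← Category.assoc, hb, Category.assoc]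
  have hx₀ : x₀ ≫ q = (b₀ ≫ pullback.snd _ _ ≫ q₁) ≫ m := by
    simp only [x₀, Category.assoc, hP.w]
  have hx₁ : x₁ ≫ q = (b₀ ≫ pullback.snd _ _ ≫ q₁) ≫ m := by
    rw [hy]
    simp only [x₁, Category.assoc, hP.w]
  let s : T ⟶ S := (b₀ ≫ pullback.snd _ _ ≫ q₁) ≫ m
  have h : x₀ ≫ q = x₁ ≫ q := hx₀.trans hx₁.symm
  -- the points of `S' ×_S W`
  let w₀ : Desc.Lifts (Over.mk (pullback.fst q W.hom)) x₀ :=
    ⟨b₀ ≫ aux hP W, by
      change (b₀ ≫ aux hP W) ≫ pullback.fst q W.hom = x₀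
      rw [Category.assoc, aux_fst]⟩
  let v₀ : Desc.Lifts (Over.mk V.hom) x₀ :=
    ⟨b₀ ≫ aux hP W ≫ psi hP V Z e hm W ψ, by
      change (b₀ ≫ aux hP W ≫ psi hP V Z e hm W ψ) ≫ V.hom = x₀
      rw [Category.assoc, Category.assoc, psi_hom, aux_fst]⟩
  have h1 := ψ.hom.comm x₀ x₁ h w₀ v₀ (Category.assoc _ _ _).symm
  have h2 : (Desc.canMap q (Over.mk W.hom) x₀ x₁ h w₀).1 = b₁ ≫ aux hP W := by
    rw [Desc.canMap_val]
    apply pullback.hom_ext
    · rw [pullback.lift_fst]
      change x₁ = (b₁ ≫ aux hP W) ≫ pullback.fst q W.hom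
      rw [Category.assoc, aux_fst]
    · rw [pullback.lift_snd]
      change (b₀ ≫ aux hP W) ≫ pullback.snd q W.hom = (b₁ ≫ aux hP W) ≫ pullback.snd q W.hom
      rw [Category.assoc, Category.assoc, aux_snd, ← Category.assoc, hb, Category.assoc]
  have h3 : (phiFun hP V Z e hm x₀ x₁ h v₀).1 = b₁ ≫ aux hP W ≫ psi hP V Z e hm W ψ :=
    h1.trans ((congrArg (· ≫ psi hP V Z e hm W ψ) h2).trans (Category.assoc _ _ _))
  have h4 := theta_phiFun hP V Z e hm x₀ x₁ h v₀ s hx₀ hx₁
  have k₀ := lift_theta hP V Z e s x₀ hx₀ v₀.1 v₀.2 (b₀ ≫ tt hP V Z e hm W ψ) (by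
    rw [Category.assoc, tt_proj]) (b₀ ≫ pullback.snd _ _ ≫ q₁) (by
      rw [Category.assoc, ← Category.assoc (tt _ _ _ _ _ _ _), tt_hom]) rfl
  have k₁ := lift_theta hP V Z e s x₁ hx₁ (phiFun hP V Z e hm x₀ x₁ h v₀).1
    (phiFun hP V Z e hm x₀ x₁ h v₀).2 (b₁ ≫ tt hP V Z e hm W ψ) (by
      rw [Category.assoc, tt_proj, h3]) (b₀ ≫ pullback.snd _ _ ≫ q₁) (by
      rw [hy, Category.assoc, ← Category.assoc (tt _ _ _ _ _ _ _), tt_hom]) rfl
  rw [h4, k₀] at k₁
  rw [vv, ← Category.assoc, ← Category.assoc]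
  exact k₁

end

/-- Descent of finite étale covers detected after a universally fully faithful base change. -/
theorem exists_descent {S S₁ S' P : Scheme.{u}} {m : S₁ ⟶ S} {q : S' ⟶ S} {q₁ : P ⟶ S₁}
    {m' : P ⟶ S'} (hP : IsPullback q₁ m' m q) (hm : UFF m) [IsProper q] [Surjective q]
    [LocallyOfFinitePresentation q] (V : FEt.Cat S') (Z : FEt.Cat S₁)
    (e : (FEt.restrict m').obj V ≅ (FEt.restrict q₁).obj Z) :
    ∃ W : FEt.Cat S, Nonempty ((FEt.restrict m).obj W ≅ Z) := by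
  have hV1 : IsFinite (dd hP V Z e hm).obj.hom := V.prop.1
  have hV2 : Etale (dd hP V Z e hm).obj.hom := V.prop.2
  obtain ⟨U, hU1, hU2, ⟨ψ⟩⟩ := Groth.Agent.Sga1.ProperDesc.effective q (dd hP V Z e hm)
  let W : FEt.Cat S := MorphismProperty.Over.mk ⊤ U.hom ⟨hU1, hU2⟩
  let ψ' : (Desc.toDD q).obj (Over.mk W.hom) ≅ dd hP V Z e hm := ψ
  refine ⟨W, ?_⟩
  have hq₁ : UniversallyClosed q₁ := MorphismProperty.of_isPullback hP.flip inferInstance
  have hq₁' : Surjective q₁ := MorphismProperty.of_isPullback hP.flip inferInstance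
  have hsub : SGA1.UnivSubmersive q₁ :=
    Groth.Agent.Sga1.SecRep.univSubmersive_of_universallyClosed q₁
  have hsub' : SGA1.UnivSubmersive (pullback.fst ((FEt.restrict m).obj W).hom q₁) :=
    MorphismProperty.pullback_fst _ _ hsub
  have hZe : Etale Z.hom := Z.prop.2
  have hWe : Etale ((FEt.restrict m).obj W).hom := ((FEt.restrict m).obj W).prop.2
  have hsq := isPullback_vv hP V Z e hm W ψ'
  obtain ⟨u, hu1, hu2⟩ := Groth.Agent.Sga1.EtaleHom.exists_hom_of_compat
    (pullback.fst ((FEt.restrict m).obj W).hom q₁) hsub' ((FEt.restrict m).obj W).hom Z.hom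
    (vv hP V Z e hm W ψ') (by rw [hsq.w, pullback.condition])
    (fun L _ x₀ x₁ hx => vv_compat hP V Z e hm W ψ' x₀ x₁ hx)
  have hue : Etale u := by
    have : Etale (u ≫ Z.hom) := by rw [hu1]; exact hWe
    exact Etale.of_comp u Z.hom
  -- `u` is an isomorphism after base change
  let i := hsq.isoIsPullback _ _ (IsPullback.of_hasPullback Z.hom q₁)
  have hi1 : i.hom ≫ pullback.fst Z.hom q₁ = vv hP V Z e hm W ψ' :=
    IsPullback.isoIsPullback_hom_fst _ _ hsq (IsPullback.of_hasPullback Z.hom q₁)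
  have hi2 : i.hom ≫ pullback.snd Z.hom q₁ = pullback.snd _ _ :=
    IsPullback.isoIsPullback_hom_snd _ _ hsq (IsPullback.of_hasPullback Z.hom q₁)
  have h1 : IsPullback (pullback.fst ((FEt.restrict m).obj W).hom q₁) i.hom u
      (pullback.fst Z.hom q₁) := by
    refine IsPullback.of_bot (v₂₁ := pullback.snd Z.hom q₁) (v₂₂ := Z.hom) (h₃₁ := q₁) ?_ ?_
      (IsPullback.of_hasPullback Z.hom q₁)
    · rw [hi2, hu1]
      exact IsPullback.of_hasPullback _ _
    · rw [hi1, hu2]
  have hsub2 : SGA1.UnivSubmersive (pullback.fst Z.hom q₁) := MorphismProperty.pullback_fst _ _ hsub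
  have hu : IsIso u := isIso_of_univSubmersive h1 hsub2
  exact ⟨isoMk (asIso u) hu1⟩

end Groth.Agent.Pi1.H390.T1Desc
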